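import Mathlib

/-!
# Taylor expansion: a local domain with principal maximal ideal and a coefficient field embeds
into the power series ring over that field
-/

set_option autoImplicit false
universe u v

namespace Groth.Agent.H8.GeoSmooth

open IsLocalRing PowerSeries

theorem exists_taylor {k : Type u} {A : Type v} [Field k] [CommRing A] [IsDomain A]
    [IsLocalRing A] [IsNoetherianRing A] (s : k →+* A) (ev : A →+* k)
    (hev : ∀ x, ev (s x) = x) (ϖ : A) (hϖ : maximalIdeal A = Ideal.span {ϖ}) :
    ∃ φ : A →+* PowerSeries k, Function.Injective φ ∧ ∀ a, constantCoeff (φ a) = ev a := by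
  have hsurj : Function.Surjective ev := fun x => ⟨s x, hev x⟩
  have hkm : RingHom.ker ev = maximalIdeal A := by
    haveI := RingHom.ker_isMaximal_of_surjective ev hsurj
    exact IsLocalRing.eq_maximalIdeal inferInstance
  by_cases h0 : ϖ = 0
  · have hinj : Function.Injective ev := by
      rw [RingHom.injective_iff_ker_eq_bot, hkm, hϖ, h0]
      exact Ideal.span_singleton_eq_bot.mpr rfl
    refine ⟨(PowerSeries.C (R := k)).comp ev, ?_, fun a => ?_⟩
    · exact (PowerSeries.C_injective).comp hinj
    · simp
  · have hϖm : ϖ ∈ maximalIdeal A := by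
      rw [hϖ]
      exact Ideal.mem_span_singleton_self ϖ
    have hevϖ : ev ϖ = 0 := by
      have h1 : ϖ ∈ RingHom.ker ev := hkm ▸ hϖm
      exact h1
    have hsub : ∀ a, ∃ b, a - s (ev a) = ϖ * b := by
      intro a
      have h1 : a - s (ev a) ∈ RingHom.ker ev := by
        rw [RingHom.mem_ker, map_sub, hev, sub_self]
      rw [hkm, hϖ, Ideal.mem_span_singleton'] at h1
      obtain ⟨b, hb⟩ := h1
      exact ⟨b, by rw [← hb, mul_comm]⟩
    choose T hT using hsub
    have T_add : ∀ a b, T (a + b) = T a + T b := by
      intro a b
      apply mul_left_cancel₀ h0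
      have h3 : s (ev (a + b)) = s (ev a) + s (ev b) := by rw [map_add, map_add]
      linear_combination -(hT (a + b)) + hT a + hT b - h3
    have T_smul : ∀ (l : k) a, T (s l * a) = s l * T a := by
      intro l a
      apply mul_left_cancel₀ h0
      have h3 : s (ev (s l * a)) = s l * s (ev a) := by rw [map_mul, hev, map_mul]
      linear_combination -(hT (s l * a)) + s l * hT a - h3
    have T_ϖ : ∀ a, T (ϖ * a) = a := by
      intro a
      apply mul_left_cancel₀ h0
      have h3 : s (ev (ϖ * a)) = 0 := by rw [map_mul, hevϖ, zero_mul, map_zero]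
      linear_combination -(hT (ϖ * a)) - h3
    have T_mul : ∀ a b, T (a * b) = s (ev a) * T b + s (ev b) * T a + ϖ * (T a * T b) := by
      intro a b
      apply mul_left_cancel₀ h0
      have h3 : s (ev (a * b)) = s (ev a) * s (ev b) := by rw [map_mul, map_mul]
      linear_combination -(hT (a * b)) - h3 + b * hT a + (s (ev a) + ϖ * T a) * hT b
    have T_one : T 1 = 0 := by
      apply mul_left_cancel₀ h0
      rw [← hT, map_one, map_one, sub_self, mul_zero]
    let F : A → PowerSeries k := fun a => PowerSeries.mk (fun n => ev (T^[n] a))
    have hF : ∀ a n, coeff n (F a) = ev (T^[n] a) := fun a n => PowerSeries.coeff_mk _ _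
    have F_eq : ∀ a, F a = C (ev a) + X * F (T a) := by
      intro a
      ext n
      cases n with
      | zero =>
        rw [map_add, hF, coeff_zero_C, coeff_zero_X_mul, add_zero]
        rfl
      | succ n =>
        rw [map_add, hF, coeff_succ_X_mul, hF, PowerSeries.coeff_C, if_neg (Nat.succ_ne_zero n),
          zero_add, Function.iterate_succ_apply]
    have hit_add : ∀ n a b, T^[n] (a + b) = T^[n] a + T^[n] b := by
      intro n
      induction n with
      | zero => intro a b; rfl
      | succ n ih =>
        intro a b
        rw [Function.iterate_succ_apply, Function.iterate_succ_apply,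
          Function.iterate_succ_apply, T_add, ih]
    have hit_smul : ∀ n (l : k) a, T^[n] (s l * a) = s l * T^[n] a := by
      intro n
      induction n with
      | zero => intro l a; rfl
      | succ n ih =>
        intro l a
        rw [Function.iterate_succ_apply, Function.iterate_succ_apply, T_smul, ih]
    have F_add : ∀ a b, F (a + b) = F a + F b := by
      intro a b
      ext n
      rw [map_add, hF, hF, hF, hit_add, map_add]
    have F_smul : ∀ (l : k) a, F (s l * a) = C l * F a := by
      intro l a
      ext n
      rw [hF, hit_smul, map_mul, hev, PowerSeries.coeff_C_mul, hF]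
    have F_zero : F 0 = 0 := by
      have h1 := F_add 0 0
      rw [add_zero] at h1
      exact left_eq_add.mp h1
    have F_ϖ : ∀ a, F (ϖ * a) = X * F a := by
      intro a
      rw [F_eq (ϖ * a), T_ϖ, map_mul, hevϖ, zero_mul, map_zero, zero_add]
    have F_one : F 1 = 1 := by
      rw [F_eq 1, T_one, F_zero, mul_zero, add_zero, map_one, map_one]
    have key : ∀ a b, F (a * b) - F a * F b =
        X ^ 2 * (F (T a * T b) - F (T a) * F (T b)) := by
      intro a b
      have h1 : F (a * b) = C (ev a) * C (ev b) +
          X * (C (ev a) * F (T b) + C (ev b) * F (T a) + X * F (T a * T b)) := by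
        rw [F_eq (a * b), T_mul, F_add, F_add, F_smul, F_smul, F_ϖ, map_mul, map_mul]
      have h2 := F_eq a
      have h3 := F_eq b
      linear_combination h1 - F b * h2 - (C (ev a) + X * F (T a)) * h3
    have hdvd : ∀ n a b, (X : PowerSeries k) ^ (2 * n) ∣ F (a * b) - F a * F b := by
      intro n
      induction n with
      | zero => intro a b; simp
      | succ n ih =>
        intro a b
        rw [key]
        obtain ⟨q, hq⟩ := ih (T a) (T b)
        rw [hq]
        exact ⟨q, by ring⟩
    have F_mul : ∀ a b, F (a * b) = F a * F b := by
      intro a b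
      rw [← sub_eq_zero]
      ext m
      rw [map_zero]
      exact (PowerSeries.X_pow_dvd_iff).mp (hdvd (m + 1) a b) m (by omega)
    let φ : A →+* PowerSeries k :=
      { toFun := F
        map_one' := F_one
        map_mul' := F_mul
        map_zero' := F_zero
        map_add' := F_add }
    have hcc : ∀ a, constantCoeff (F a) = ev a := by
      intro a
      rw [← PowerSeries.coeff_zero_eq_constantCoeff_apply, hF]
      rfl
    refine ⟨φ, ?_, hcc⟩
    have hdiv : ∀ n a, F a = 0 → ∃ b, a = ϖ ^ n * b := by
      intro n
      induction n with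
      | zero => intro a _; exact ⟨a, by rw [pow_zero, one_mul]⟩
      | succ n ih =>
        intro a ha
        have h2 : ev a = 0 := by rw [← hcc, ha, map_zero]
        have h1 := F_eq a
        rw [ha, h2, map_zero, zero_add] at h1
        have h3 : F (T a) = 0 := by
          rcases mul_eq_zero.mp h1.symm with h | h
          · exact absurd h PowerSeries.X_ne_zero
          · exact h
        obtain ⟨b, hb⟩ := ih (T a) h3
        refine ⟨b, ?_⟩
        have h4 := hT a
        rw [h2, map_zero, sub_zero, hb] at h4
        rw [h4, pow_succ]
        ring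
    rw [injective_iff_map_eq_zero]
    intro a ha
    have hmem : a ∈ ⨅ n, (maximalIdeal A) ^ n := by
      rw [Ideal.mem_iInf]
      intro n
      obtain ⟨b, rfl⟩ := hdiv n a ha
      rw [hϖ, Ideal.span_singleton_pow]
      exact Ideal.mul_mem_right _ _ (Ideal.mem_span_singleton_self _)
    rw [Ideal.iInf_pow_eq_bot_of_isLocalRing _ (IsLocalRing.maximalIdeal.isMaximal A).ne_top]
      at hmem
    exact hmem

end Groth.Agent.H8.GeoSmooth
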