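import Mathlib
import Groth.Prelude
import Groth.Agent.Lib.Helper1.SmoothDepth
import Groth.Agent.Lib.Helper8.DVRSch
import Groth.Agent.Lib.Helper8.GeoSmooth.Taylor

/-!
# A geometric smoothing over a smooth curve gives a smoothing over `k[[t]]`
-/

set_option autoImplicit false
universe u

open CategoryTheory CategoryTheory.Limits AlgebraicGeometry IsLocalRing

namespace Groth.Agent.H8.GeoSmooth

section generic

theorem fromSpecStalk_bot {C : Scheme.{u}} [IsIntegral C] (x : C) :
    (C.fromSpecStalk x) (⊥ : PrimeSpectrum (C.presheaf.stalk x)) = genericPoint C := by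
  have h1 : genericPoint C ⤳ x := genericPoint_specializes x
  have h2 : genericPoint C ∈ Set.range (C.fromSpecStalk x) := by
    rw [Scheme.range_fromSpecStalk]
    exact h1
  obtain ⟨ξ, hξ⟩ := h2
  have h3 : (⊥ : PrimeSpectrum (C.presheaf.stalk x)) ⤳ ξ :=
    (PrimeSpectrum.le_iff_specializes _ _).mp bot_le
  have h4 := h3.map (C.fromSpecStalk x).continuous
  rw [hξ] at h4
  exact (h4.antisymm (genericPoint_specializes _)).eq

end generic

section core

variable {k : Type u} [Field k] {C : Scheme.{u}} (qC : C ⟶ Spec (CommRingCat.of k))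
  (c : Spec (CommRingCat.of k) ⟶ C) (hc : c ≫ qC = 𝟙 (Spec (CommRingCat.of k)))
  [IsIntegral C] [Smooth qC] (hC : topologicalKrullDim C = 1)

include hc hC in
theorem exists_hom_powerSeries :
    ∃ φ : C.presheaf.stalk (c (closedPoint k)) ⟶ CommRingCat.of (PowerSeries k),
      Function.Injective φ.hom ∧
      φ ≫ CommRingCat.ofHom (PowerSeries.constantCoeff (R := k)) = Scheme.stalkClosedPointTo c := by
  haveI hreg : IsRegularLocalRing (C.presheaf.stalk (c (closedPoint k))) :=
    Groth.Agent.H1.SmoothDepth.isRegularLocalRing_stalk_of_smooth k qC (c (closedPoint k))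
  haveI : IsNoetherianRing (C.presheaf.stalk (c (closedPoint k))) := inferInstance
  let ev : C.presheaf.stalk (c (closedPoint k)) →+* k := (Scheme.stalkClosedPointTo c).hom
  let s : k →+* C.presheaf.stalk (c (closedPoint k)) :=
    ((Scheme.ΓSpecIso (CommRingCat.of k)).inv ≫ qC.appTop ≫
      C.presheaf.germ ⊤ (c (closedPoint k)) trivial).hom
  have hcomp : (Scheme.ΓSpecIso (CommRingCat.of k)).inv ≫ qC.appTop ≫
      C.presheaf.germ ⊤ (c (closedPoint k)) trivial ≫ Scheme.stalkClosedPointTo c = 𝟙 _ := by
    rw [Scheme.germ_stalkClosedPointTo]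
    have h1 : qC.appTop ≫ c.app ⊤ = 𝟙 _ := by
      have := congrArg Scheme.Hom.appTop hc
      simpa using this
    simp only [Iso.trans_hom, Functor.mapIso_hom, Iso.op_hom, eqToIso.hom]
    rw [← Category.assoc qC.appTop, h1]
    simp
  have hev : ∀ x, ev (s x) = x := by
    intro x
    have := congrArg (fun f => f.hom x) hcomp
    simpa [ev, s] using this
  have hdim : ringKrullDim (C.presheaf.stalk (c (closedPoint k))) ≤ 1 := by
    have hind : Topology.IsInducing (C.fromSpecStalk (c (closedPoint k))) :=
      (C.fromSpecStalk (c (closedPoint k))).isEmbedding.isInducing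
    have h1 := hind.topologicalKrullDim_le
    rw [hC] at h1
    exact (PrimeSpectrum.topologicalKrullDim_eq_ringKrullDim
      (R := C.presheaf.stalk (c (closedPoint k)))).symm.trans_le h1
  have hϖ : ∃ ϖ : C.presheaf.stalk (c (closedPoint k)),
      maximalIdeal (C.presheaf.stalk (c (closedPoint k))) = Ideal.span {ϖ} := by
    have h1 : ((maximalIdeal (C.presheaf.stalk (c (closedPoint k)))).spanFinrank : WithBot ℕ∞) =
        ringKrullDim (C.presheaf.stalk (c (closedPoint k))) :=
      IsRegularLocalRing.spanFinrank_maximalIdeal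
    have h2 : (maximalIdeal (C.presheaf.stalk (c (closedPoint k)))).spanFinrank ≤ 1 := by
      rw [← h1] at hdim
      exact_mod_cast hdim
    obtain ⟨t, ht1, ht2⟩ := Submodule.FG.exists_span_finset_card_eq_spanFinrank
      (IsNoetherian.noetherian (maximalIdeal (C.presheaf.stalk (c (closedPoint k)))))
    rcases Nat.le_one_iff_eq_zero_or_eq_one.mp (ht1 ▸ h2) with h | h
    · rw [Finset.card_eq_zero] at h
      subst h
      exact ⟨0, by rw [← ht2]; simp⟩
    · obtain ⟨ϖ, rfl⟩ := Finset.card_eq_one.mp h
      exact ⟨ϖ, by rw [← ht2]; simp [Ideal.span]⟩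
  obtain ⟨ϖ, hϖ⟩ := hϖ
  obtain ⟨φ₀, hinj, hcc⟩ := exists_taylor s ev hev ϖ hϖ
  refine ⟨CommRingCat.ofHom φ₀, hinj, ?_⟩
  ext a
  exact hcc a

end core

section main

theorem main (k : Type u) [Field k] (X : Scheme.{u}) (pX : X ⟶ Spec (CommRingCat.of k))
    (C : Scheme.{u}) (qC : C ⟶ Spec (CommRingCat.of k)) (c : Spec (CommRingCat.of k) ⟶ C)
    (hc : c ≫ qC = 𝟙 (Spec (CommRingCat.of k))) [IsIntegral C] [Smooth qC]
    (hC : topologicalKrullDim C = 1)
    (Y : Scheme.{u}) (π : Y ⟶ C) [Flat π] [IsProper π] (j : X ⟶ Y) (hsq : IsPullback j pX π c)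
    (hgen : Smooth (π.fiberToSpecResidueField (genericPoint C))) :
    ∃ (P : Scheme.{u}) (p : P ⟶ Spec (CommRingCat.of (PowerSeries k))) (_ : Flat p) (_ : IsProper p)
      (i : X ⟶ P),
      IsPullback i pX p (Spec.map (CommRingCat.ofHom (PowerSeries.constantCoeff (R := k)))) ∧
      Smooth (pullback.snd p
        (Spec.map (CommRingCat.ofHom (algebraMap (PowerSeries k) (FractionRing (PowerSeries k)))))) := by
  obtain ⟨φ, hφinj, hφc⟩ := exists_hom_powerSeries qC c hc hC
  let u : Spec (CommRingCat.of (PowerSeries k)) ⟶ C :=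
    Spec.map φ ≫ C.fromSpecStalk (c (closedPoint k))
  let cc : Spec (CommRingCat.of k) ⟶ Spec (CommRingCat.of (PowerSeries k)) :=
    Spec.map (CommRingCat.ofHom (PowerSeries.constantCoeff (R := k)))
  have hcu : cc ≫ u = c := by
    show Spec.map _ ≫ Spec.map φ ≫ C.fromSpecStalk _ = c
    rw [← Category.assoc, ← Spec.map_comp, hφc]
    exact Scheme.Spec_stalkClosedPointTo_fromSpecStalk c
  have hw : j ≫ π = (pX ≫ cc) ≫ u := by rw [hsq.w, Category.assoc, hcu]
  refine ⟨pullback π u, pullback.snd π u, inferInstance, inferInstance,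
    pullback.lift j (pX ≫ cc) hw, ?_, ?_⟩
  · have hbig : IsPullback (pullback.lift j (pX ≫ cc) hw ≫ pullback.fst π u) pX π (cc ≫ u) := by
      rw [pullback.lift_fst, hcu]
      exact hsq
    exact IsPullback.of_right hbig (pullback.lift_snd _ _ _) (IsPullback.of_hasPullback π u)
  · let g : Spec (CommRingCat.of (FractionRing (PowerSeries k))) ⟶
        Spec (CommRingCat.of (PowerSeries k)) :=
      Spec.map (CommRingCat.ofHom (algebraMap (PowerSeries k) (FractionRing (PowerSeries k))))
    let f : Spec (CommRingCat.of (FractionRing (PowerSeries k))) ⟶ C := g ≫ u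
    have hpt : f (closedPoint (FractionRing (PowerSeries k))) = genericPoint C := by
      show (C.fromSpecStalk (c (closedPoint k)))
        ((Spec.map φ) (g (closedPoint (FractionRing (PowerSeries k))))) = _
      rw [Groth.Agent.H8.DVRSch.specMap_fractionRing_apply]
      have h1 : (Spec.map φ) (⊥ : PrimeSpectrum (PowerSeries k)) =
          (⊥ : PrimeSpectrum (C.presheaf.stalk (c (closedPoint k)))) := by
        apply PrimeSpectrum.ext
        show Ideal.comap φ.hom ⊥ = ⊥
        rw [← RingHom.ker_eq_comap_bot]
        exact (RingHom.injective_iff_ker_eq_bot _).mp hφinj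
      rw [h1]
      exact fromSpecStalk_bot _
    let ρ := Scheme.descResidueField (Scheme.stalkClosedPointTo f)
    have hf : Spec.map ρ ≫
        C.fromSpecResidueField (f (closedPoint (FractionRing (PowerSeries k)))) = f :=
      Scheme.descResidueField_stalkClosedPointTo_fromSpecResidueField _ C f
    have hsm : Smooth
        (π.fiberToSpecResidueField (f (closedPoint (FractionRing (PowerSeries k))))) :=
      hpt ▸ hgen
    have hbig : IsPullback (pullback.fst (pullback.snd π u) g ≫ pullback.fst π u)
        (pullback.snd (pullback.snd π u) g) π (g ≫ u) :=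
      IsPullback.paste_horiz (IsPullback.of_hasPullback (pullback.snd π u) g)
        (IsPullback.of_hasPullback π u)
    have hfib : IsPullback
        (π.fiberι (f (closedPoint (FractionRing (PowerSeries k)))))
        (π.fiberToSpecResidueField (f (closedPoint (FractionRing (PowerSeries k))))) π
        (C.fromSpecResidueField (f (closedPoint (FractionRing (PowerSeries k))))) :=
      IsPullback.of_hasPullback _ _
    have hw2 : (pullback.fst (pullback.snd π u) g ≫ pullback.fst π u) ≫ π =
        (pullback.snd (pullback.snd π u) g ≫ Spec.map ρ) ≫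
          C.fromSpecResidueField (f (closedPoint (FractionRing (PowerSeries k)))) := by
      rw [hbig.w, Category.assoc, hf]
    let a : pullback (pullback.snd π u) g ⟶
        π.fiber (f (closedPoint (FractionRing (PowerSeries k)))) :=
      pullback.lift (pullback.fst (pullback.snd π u) g ≫ pullback.fst π u)
        (pullback.snd (pullback.snd π u) g ≫ Spec.map ρ) hw2
    have hbig' : IsPullback
        (a ≫ π.fiberι (f (closedPoint (FractionRing (PowerSeries k)))))
        (pullback.snd (pullback.snd π u) g) π
        (Spec.map ρ ≫ C.fromSpecResidueField (f (closedPoint (FractionRing (PowerSeries k))))) := by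
      rw [hf]
      have : a ≫ π.fiberι (f (closedPoint (FractionRing (PowerSeries k)))) =
          pullback.fst (pullback.snd π u) g ≫ pullback.fst π u := pullback.lift_fst _ _ _
      rw [this]
      exact hbig
    have hleft : IsPullback a (pullback.snd (pullback.snd π u) g)
        (π.fiberToSpecResidueField (f (closedPoint (FractionRing (PowerSeries k)))))
        (Spec.map ρ) :=
      IsPullback.of_right hbig' (pullback.lift_snd _ _ _) hfib
    exact MorphismProperty.of_isPullback hleft hsm

end main

end Groth.Agent.H8.GeoSmooth
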